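import Cfsg.Agent.OD.Pre
import Cfsg.Agent.H6.Top2
import Cfsg.Agent.H6.N23A.D0
set_option autoImplicit false
set_option maxRecDepth 100000
set_option Elab.async false
set_option linter.all false
namespace CfH6.N23A
open CfH6 MulAction
noncomputable def n0_0 : Net := mkNet (nat_lit 256) [(nat_lit 128, k0), (nat_lit 64, k1), (nat_lit 32, k2), (nat_lit 16, k3), (nat_lit 8, k4), (nat_lit 4, k5), (nat_lit 2, k6)] [(k7, nat_lit 1)]
noncomputable def n0_1 : Net := revNet n0_0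
noncomputable def n0_2 : Net := mkNet (nat_lit 256) [(nat_lit 128, k8), (nat_lit 64, k9), (nat_lit 32, k10), (nat_lit 16, k11), (nat_lit 8, k12), (nat_lit 4, k13), (nat_lit 2, k14)] [(k15, nat_lit 1)]
noncomputable def n0_3 : Net := revNet n0_2
noncomputable def n0_4 : Net := mkNet (nat_lit 256) [(nat_lit 128, k16), (nat_lit 64, k17), (nat_lit 32, k18), (nat_lit 16, k19), (nat_lit 8, k20), (nat_lit 4, k21), (nat_lit 2, k22)] [(k23, nat_lit 1)]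
noncomputable def n0_5 : Net := mkNet (nat_lit 256) [(nat_lit 128, k24), (nat_lit 64, k25), (nat_lit 32, k26), (nat_lit 16, k27), (nat_lit 8, k28), (nat_lit 4, k29), (nat_lit 2, k30)] [(k31, nat_lit 1)]
noncomputable def n0_6 : Net := mkNet (nat_lit 256) [(nat_lit 128, k32), (nat_lit 64, k33), (nat_lit 32, k34), (nat_lit 16, k35), (nat_lit 8, k36), (nat_lit 4, k37), (nat_lit 2, k38)] [(k39, nat_lit 1)]
noncomputable def n0_7 : Net := mkNet (nat_lit 256) [(nat_lit 128, k40), (nat_lit 64, k41), (nat_lit 32, k42), (nat_lit 16, k43), (nat_lit 8, k44), (nat_lit 4, k45), (nat_lit 2, k46)] [(k47, nat_lit 1)]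
noncomputable def n0_8 : Net := mkNet (nat_lit 256) [(nat_lit 128, k48), (nat_lit 64, k49), (nat_lit 32, k50), (nat_lit 16, k51), (nat_lit 8, k52), (nat_lit 4, k53), (nat_lit 2, k54)] [(k55, nat_lit 1)]
noncomputable def n0_9 : Net := mkNet (nat_lit 256) [(nat_lit 128, k56), (nat_lit 64, k57), (nat_lit 32, k58), (nat_lit 16, k59), (nat_lit 8, k60), (nat_lit 4, k61), (nat_lit 2, k62)] [(k63, nat_lit 1)]
noncomputable def n0_10 : Net := mkNet (nat_lit 256) [(nat_lit 128, k64), (nat_lit 64, k65), (nat_lit 32, k66), (nat_lit 16, k67), (nat_lit 8, k68), (nat_lit 4, k69), (nat_lit 2, k70)] [(k71, nat_lit 1)]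
noncomputable def n2_0 : Net := mkNet (nat_lit 16) [(nat_lit 8, (nat_lit 0x5632)), (nat_lit 4, (nat_lit 0x4c8)), (nat_lit 2, (nat_lit 0xa4ca))] [((nat_lit 0x4044), nat_lit 1)]
noncomputable def n2_1 : Net := mkNet (nat_lit 16) [(nat_lit 8, (nat_lit 0x870)), (nat_lit 4, (nat_lit 0x7000)), (nat_lit 2, (nat_lit 0x4400))] [((nat_lit 0x1014), nat_lit 1)]
noncomputable def n2_2 : Net := mkNet (nat_lit 16) [(nat_lit 8, (nat_lit 0x870)), (nat_lit 4, (nat_lit 0x7000)), (nat_lit 2, (nat_lit 0xe040))] [((nat_lit 0x4104), nat_lit 1)]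
noncomputable def n3_0 : Net := mkNet (nat_lit 12) [(nat_lit 6, (nat_lit 0x408)), (nat_lit 3, (nat_lit 0x300))] [((nat_lit 0x48), nat_lit 1), ((nat_lit 0x490), nat_lit 1), ((nat_lit 0x40), nat_lit 1)]
noncomputable def n3_1 : Net := mkNet (nat_lit 12) [(nat_lit 6, (nat_lit 0xa00)), (nat_lit 3, (nat_lit 0xa00))] [((nat_lit 0x240), nat_lit 1), ((nat_lit 0x480), nat_lit 1), ((nat_lit 0x240), nat_lit 1)]
noncomputable def n4_0 : Net := mkNet (nat_lit 8) [(nat_lit 4, (nat_lit 0)), (nat_lit 2, (nat_lit 0xe0))] [((nat_lit 0x40), nat_lit 1)]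
noncomputable def nets0 : List Net := [n0_0, n0_1, n0_2, n0_3, n0_4, n0_5, n0_6, n0_7, n0_8, n0_9, n0_10]
noncomputable def nets1 : List Net := [n0_0, n0_2, n0_4, n0_5, n0_6, n0_7, n0_8, n0_9]
def ws1 : List (List ℕ) := [[0],
  [2],
  [4],
  [5],
  [6],
  [7],
  [8],
  [9]]
noncomputable def nets2 : List Net := [n2_0, n2_1, n2_2]
def ws2 : List (List ℕ) := [[2, 0, 0, 3, 2, 1, 6, 0, 6, 2, 3, 0, 0, 2],
  [0],
  [1]]
noncomputable def nets3 : List Net := [n3_0, n3_1]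
def ws3 : List (List ℕ) := [[0, 0, 1, 1, 0],
  [1, 0, 0, 2, 1]]
noncomputable def nets4 : List Net := [n4_0]
def ws4 : List (List ℕ) := [[0, 0, 0, 1, 0]]
def sig : List (List ℕ) := [[0],
  [1],
  [2],
  [3],
  [4],
  [5],
  [6],
  [7],
  [8],
  [9],
  [10]]
def eqs0 : List (List ℕ × List ℕ) := [([0, 1], []),
  ([2, 3], []),
  ([4, 4], []),
  ([5, 5], []),
  ([6, 6], []),
  ([7, 7], []),
  ([8, 8], []),
  ([9, 9], []),
  ([10, 10], []),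
  ([0, 0], [1]),
  ([2, 2], [3]),
  ([0, 2], [2, 0]),
  ([4, 0, 3], [0, 3, 4]),
  ([5, 0, 2], [0, 2, 5]),
  ([4, 0, 2, 4, 0], [3, 1, 4, 3]),
  ([5, 0, 3, 5, 0], [2, 1, 5, 2]),
  ([4, 5, 4, 5, 4, 5], [5, 4, 5, 4, 5, 4]),
  ([0, 4, 5, 0, 4, 5, 0, 4], [5, 4, 1, 5, 4, 1, 5]),
  ([2, 4, 5, 2, 4, 5, 2, 4], [5, 4, 3, 5, 4, 3, 5]),
  ([6, 7], [7, 6]),
  ([6, 8], [8, 6]),
  ([6, 9], [9, 6]),
  ([7, 8], [8, 7]),
  ([7, 9], [9, 7]),
  ([8, 9], [9, 8]),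
  ([0, 6], [6, 0]),
  ([0, 7], [7, 0]),
  ([0, 8], [9, 0]),
  ([0, 9, 1], [9, 8]),
  ([2, 6], [7, 2]),
  ([2, 7, 3], [7, 6]),
  ([2, 8], [8, 2]),
  ([2, 9], [9, 2]),
  ([4, 6, 4], [8, 6]),
  ([4, 7, 4], [9, 8, 7]),
  ([4, 8], [8, 4]),
  ([4, 9], [9, 4]),
  ([5, 6], [6, 5]),
  ([5, 7], [7, 5]),
  ([5, 8, 5], [8, 6]),
  ([5, 9, 5], [9, 7]),
  ([10, 2], [2, 10]),
  ([10, 0, 10], [3, 1]),
  ([10, 6], [5, 10]),
  ([10, 8, 10], [8, 10, 8]),
  ([10, 4, 5, 4, 5, 4, 5], [4, 5, 4, 5, 4, 5, 10]),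
  ([10, 4, 5, 0, 4, 1, 5, 4, 10, 4, 5, 0], [4, 5, 0, 4, 1, 5, 4, 10, 4, 5, 0, 4])]
def eqs : List (List ℕ × List ℕ) := eqs0
def lU : List (ℕ × ℕ) := [(0, 7), (8, 7), (16, 239)]
noncomputable def U : ℕ := ivls lU
def l1 : List (ℕ × ℕ) := [(1, 1), (16, 139)]
noncomputable def S1 : ℕ := ivls l1
def w1 : List ℕ := [10]
def l2 : List (ℕ × ℕ) := [(2, 5), (8, 7), (155, 100)]
noncomputable def S2 : ℕ := ivls l2
def w2 : List ℕ := [10, 8, 4, 5, 0, 4, 10]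
noncomputable def J : List (List ℕ × ℕ × ℕ) := [(w1, 1, S1), (w2, 157, S2)]
def lBig : List (ℕ × ℕ) := [(1, 1), (16, 139)]
noncomputable def J2 : List (List ℕ × ℕ × ℕ) := [([7, 1, 0, 0, 0], 1, S1)]
noncomputable def J1 : List (List ℕ × ℕ × ℕ) := [([0], 1, S1)]
def ex : List (List ℕ) := [[7, 6, 3, 5, 4, 0, 10, 4]]
def bs' : List ℕ := [0, 1, 2, 3, 4]
end CfH6.N23A
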